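import Cfsg.Agent.H270.Crit.Base
import Cfsg.Agent.H489.OutSpor
import Cfsg.Agent.H94.Sp.Mathieu
import Cfsg.Agent.NotCT.Orders
import Cfsg.Agent.H992.Stages.Mathieu

/-!
# `Crit` for the Mathieu groups (helper270)
-/

set_option autoImplicit false

namespace Cfsg.Agent.H270.Crit

open Subgroup Cfsg Cfsg.Agent.H548.Crit

theorem crit_m11 {K : Type*} [Group K] [Finite K] (h : Spor.IsoM11 K) (ho : Nat.card (Cfsg.Out K) ≤ 2) : Crit K := by
  have hn := NotCT.Orders.m11 h
  obtain ⟨e⟩ := h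
  have hM : IsM11 Spor.M11 := UGT.End.MEleven.isM11 ⟨MulEquiv.refl _⟩
  have hf : Finite Spor.M11 := Finite.of_equiv _ e.toEquiv
  have : Fact (Nat.Prime 2) := ⟨Nat.prime_two⟩
  obtain ⟨t, ht⟩ := exists_prime_orderOf_dvd_card' (G := Spor.M11) 2 (by rw [hM.2]; norm_num)
  exact crit_iso (B := 16) (c := 48) e t hn ho (S0435.result hM t ht).le [(2, 4), (3, 2), (5, 1), (11, 1)]
    (by norm_num) (by decide +kernel)

theorem crit_m12 {K : Type*} [Group K] [Finite K] (h : Spor.IsoM12 K) (ho : Nat.card (Cfsg.Out K) ≤ 2) : Crit K := by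
  have hn := NotCT.Orders.m12 h
  obtain ⟨e⟩ := h
  exact crit_iso (B := 64) (c := 240) e Cfsg.Agent.CoThreeStd.MTwelve.y hn ho
    Cfsg.Agent.CoThreeStd.MTwelve.card_cent_y.le [(2, 6), (3, 3), (5, 1), (11, 1)]
    (by norm_num) (by decide +kernel)

theorem crit_m22 {K : Type*} [Group K] [Finite K] (h : Spor.IsoM22 K) (ho : Nat.card (Cfsg.Out K) ≤ 2) : Crit K := by
  have hn := NotCT.Orders.m22 h
  obtain ⟨e⟩ := h
  have hf : Finite Spor.M22 := Finite.of_equiv _ e.toEquiv
  have : Fact (Nat.Prime 2) := ⟨Nat.prime_two⟩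
  obtain ⟨t, ht⟩ := exists_prime_orderOf_dvd_card' (G := Spor.M22) 2
    (by rw [← Nat.card_congr e.toEquiv, hn]; norm_num)
  exact crit_iso (B := 128) (c := 384) e t hn ho (H992.Stages.card_cent_m22 ht).le
    [(2, 7), (3, 2), (5, 1), (7, 1), (11, 1)] (by norm_num) (by decide +kernel)

theorem crit_m23 {K : Type*} [Group K] [Finite K] (h : Spor.IsoM23 K) (ho : Nat.card (Cfsg.Out K) ≤ 2) : Crit K := by
  have hn := NotCT.Orders.m23 h
  obtain ⟨e⟩ := h
  have hf : Finite Spor.M23 := Finite.of_equiv _ e.toEquiv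
  have : Fact (Nat.Prime 2) := ⟨Nat.prime_two⟩
  obtain ⟨t, ht⟩ := exists_prime_orderOf_dvd_card' (G := Spor.M23) 2
    (by rw [← Nat.card_congr e.toEquiv, hn]; norm_num)
  exact crit_iso (B := 128) (c := 2688) e t hn ho (H992.Stages.card_cent_m23 ht).le
    [(2, 7), (3, 2), (5, 1), (7, 1), (11, 1), (23, 1)] (by norm_num) (by decide +kernel)

/-- The centralizer of an element of order 23 in `M24`. -/
theorem card_cent_m24 {x : M24} (hx : orderOf x = 23) : Nat.card (centralizer ({x} : Set M24)) ≤ 23 := by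
  classical
  set g : Equiv.Perm GolayPt := (x : Equiv.Perm GolayPt) with hg
  have ho : orderOf g = 23 := by rw [hg, Subgroup.orderOf_coe, hx]
  have hcard : Fintype.card GolayPt = 24 := by
    simp [GolayPt]
  have hcyc : g.IsCycle := Equiv.Perm.isCycle_of_prime_order' (by rw [ho]; norm_num) (by rw [hcard, ho]; norm_num)
  have h1 := Equiv.Perm.nat_card_centralizer g
  have hsup : g.support.card = 23 := by rw [← hcyc.orderOf, ho]
  rw [hcyc.cycleType, hsup, hcard] at h1
  have h2 : Nat.card (centralizer ({g} : Set (Equiv.Perm GolayPt))) = 23 := by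
    rw [h1]
    decide
  rw [← h2]
  exact Nat.card_le_card_of_injective
    (fun c : centralizer ({x} : Set M24) =>
      (⟨(c : M24), mem_centralizer_singleton_iff.2 (congrArg Subtype.val (mem_centralizer_singleton_iff.1 c.2))⟩ :
        centralizer ({g} : Set (Equiv.Perm GolayPt))))
    (fun a b hab => by
      simp only [Subtype.mk.injEq] at hab
      exact Subtype.ext (Subtype.ext hab))

theorem crit_m24 {K : Type*} [Group K] [Finite K] (h : Spor.IsoM24 K) (ho : Nat.card (Cfsg.Out K) ≤ 2) : Crit K := by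
  have hn := NotCT.Orders.m24 h
  obtain ⟨e⟩ := h
  have hf : Finite M24 := Finite.of_equiv _ e.toEquiv
  have : Fact (Nat.Prime 23) := ⟨by norm_num⟩
  obtain ⟨t, ht⟩ := exists_prime_orderOf_dvd_card' (G := M24) 23
    (by rw [← Nat.card_congr e.toEquiv, hn]; norm_num)
  exact crit_iso (B := 1024) (c := 23) e t hn ho (card_cent_m24 ht)
    [(2, 10), (3, 3), (5, 1), (7, 1), (11, 1), (23, 1)] (by norm_num) (by decide +kernel)

end Cfsg.Agent.H270.Crit
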