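import Cfsg.Agent.H548.Crit

/-!
# The criterion `Crit` from an order given by its prime factorisation (helper270)
-/

set_option autoImplicit false

namespace Cfsg.Agent.H270.Crit

open Subgroup Cfsg Cfsg.Agent.H548.Crit

/-- A bound for all `p`-parts of `n` from a list of pairs (prime, exponent). -/
theorem ordProj_le {n B : ℕ} (hn : n ≠ 0) (hB : 1 ≤ B) (l : List (ℕ × ℕ)) (hp : ∀ a ∈ l, a.1.Prime)
    (hprod : n ∣ (l.map Prod.fst).prod ^ 60)
    (hchk : ∀ a ∈ l, a.1 ^ a.2 ≤ B ∧ ¬ a.1 ^ (a.2 + 1) ∣ n) (p : ℕ) (hpp : p.Prime) : ordProj[p] n ≤ B := by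
  by_cases hd : p ∣ n
  · have h1 : p ∣ (l.map Prod.fst).prod := hpp.dvd_of_dvd_pow (hd.trans hprod)
    rw [hpp.prime.dvd_prod_iff] at h1
    obtain ⟨a, ha, hpa⟩ := h1
    obtain ⟨b, hb, rfl⟩ := List.mem_map.1 ha
    have h2 : p = b.1 := (Nat.prime_dvd_prime_iff_eq hpp (hp b hb)).1 hpa
    obtain ⟨h3, h4⟩ := hchk b hb
    rw [← h2] at h3 h4
    refine le_trans (Nat.pow_le_pow_right hpp.pos ?_) h3
    by_contra h5
    push Not at h5
    exact h4 ((pow_dvd_pow p h5).trans (Nat.ordProj_dvd n p))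
  · rw [Nat.factorization_eq_zero_of_not_dvd hd, pow_zero]
    exact hB

/-- The criterion with the factorised order and `|Out| ≤ o`. -/
theorem crit_num {S : Type*} [Group S] [Finite S] (x : S) {n B c o : ℕ} (hS : Nat.card S = n)
    (ho : Nat.card (Cfsg.Out S) ≤ o) (hc : Nat.card (centralizer ({x} : Set S)) ≤ c)
    (l : List (ℕ × ℕ)) (hB : 1 ≤ B) (hp : ∀ a ∈ l, a.1.Prime) (hprod : n ∣ (l.map Prod.fst).prod ^ 60)
    (hchk : ∀ a ∈ l, a.1 ^ a.2 ≤ B ∧ ¬ a.1 ^ (a.2 + 1) ∣ n) (h : 2 * o * B * c ≤ n) :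
    H548.Crit.Crit S := by
  have hn : n ≠ 0 := by rw [← hS]; exact Nat.card_pos.ne'
  refine crit_of_card x hc ho (fun p hpp => ?_) (hS ▸ h)
  rw [hS]
  exact ordProj_le hn hB l hp hprod hchk p hpp

/-- transport of the bound of `|Out|` -/
theorem out_le {K T : Type*} [Group K] [Group T] (e : K ≃* T) {n : ℕ} (h : Nat.card (Cfsg.Out K) ≤ n) :
    Nat.card (Cfsg.Out T) ≤ n := by
  rwa [card_out_congr e] at h

/-- numerical check -/
def chk (n B o c : ℕ) (l : List (ℕ × ℕ)) : Bool :=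
  Nat.ble 1 B && (Nat.beq ((l.map Prod.fst).prod ^ 60 % n) 0 &&
    (l.all (fun a => Nat.ble (a.1 ^ a.2) B && !Nat.beq (n % a.1 ^ (a.2 + 1)) 0) && Nat.ble (2 * o * B * c) n))

/-- The criterion transported along an isomorphism. -/
theorem crit_iso {K T : Type*} [Group K] [Group T] [Finite K] (e : K ≃* T) (x : T) {n B c o : ℕ}
    (hS : Nat.card K = n) (ho : Nat.card (Cfsg.Out K) ≤ o) (hc : Nat.card (centralizer ({x} : Set T)) ≤ c)
    (l : List (ℕ × ℕ)) (hp : ∀ a ∈ l, a.1.Prime) (h : chk n B o c l = true) : H548.Crit.Crit K := by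
  unfold chk at h
  simp only [Bool.and_eq_true, List.all_eq_true, Bool.not_eq_true'] at h
  obtain ⟨h1, h2, h3, h4⟩ := h
  refine crit_num (e.symm x) hS ho ?_ l (Nat.le_of_ble_eq_true h1) hp
    (Nat.dvd_of_mod_eq_zero (Nat.eq_of_beq_eq_true h2)) (fun a ha => ⟨Nat.le_of_ble_eq_true (h3 a ha).1, fun hd => ?_⟩)
    (Nat.le_of_ble_eq_true h4)
  · rw [card_centralizer_congr e, MulEquiv.apply_symm_apply]
    exact hc
  · have h5 := (h3 a ha).2
    rw [Nat.mod_eq_zero_of_dvd hd] at h5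
    exact Bool.noConfusion h5

end Cfsg.Agent.H270.Crit
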