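import Cfsg.Agent.H270.Crit.Base
import Cfsg.Agent.H94.Sp.Fischer
import Cfsg.Agent.NotCT.Orders
import Cfsg.Agent.KFacts.FiTT.Final
import Cfsg.Agent.H839.SeventeenMain

/-!
# `Crit` for Fi22, Fi23, Fi24' (helper270)
-/

set_option autoImplicit false

namespace Cfsg.Agent.H270.Crit

open Subgroup Cfsg Cfsg.Agent.H548.Crit

theorem crit_fi22 {K : Type*} [Group K] [Finite K] (h : Spor.IsoFi22 K) (ho : Nat.card (Cfsg.Out K) ≤ 2) : Crit K := by
  have hn := NotCT.Orders.fi22 h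
  obtain ⟨T, d, π, lift, B⟩ := KFacts.FiTT.exists_base h
  have h1 := (Subgroup.centralizer ({d * KFacts.FiTT.d2 lift} : Set K)).card_mul_index
  rw [B.index_z, hn] at h1
  exact crit_iso (B := 131072) (c := 53084160) (MulEquiv.refl K) (d * KFacts.FiTT.d2 lift) hn ho (by omega)
    [(2, 17), (3, 9), (5, 2), (7, 1), (11, 1), (13, 1)] (by norm_num) (by decide +kernel)

theorem crit_fi23 {K : Type*} [Group K] [Finite K] (h : Spor.IsoFi23 K) (ho : Nat.card (Cfsg.Out K) ≤ 2) : Crit K := by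
  have hn := NotCT.Orders.fi23 h
  obtain ⟨e⟩ := h
  have h1 := H839.Fi23.card_y17
  have h2 : centralizer ({LThreeFi23.elw LThreeFi23.y17} : Set Spor.Fi23) ≤
      zpowers (LThreeFi23.elw LThreeFi23.y17) := by
    rw [← H839.Fi23.self_cent17]
    intro c hc
    rw [mem_centralizer_iff]
    rintro _ ⟨k, rfl⟩
    exact ((show Commute c _ from mem_centralizer_singleton_iff.1 hc).zpow_right k).eq.symm
  have hf : Finite Spor.Fi23 := Finite.of_equiv _ e.toEquiv
  have h3 := Subgroup.card_le_of_le h2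
  rw [h1] at h3
  exact crit_iso (B := 1594323) (c := 17) e _ hn ho h3
    [(2, 18), (3, 13), (5, 2), (7, 1), (11, 1), (13, 1), (17, 1), (23, 1)] (by norm_num) (by decide +kernel)

open Cfsg.Spor Cfsg.Agent.R08 in
theorem crit_fi24 {K : Type*} [Group K] [Finite K] (h : Spor.IsoFi24' K) (ho : Nat.card (Cfsg.Out K) ≤ 2) : Crit K := by
  have hn := NotCT.Orders.fi24 h
  obtain ⟨e⟩ := h
  have hf : Finite Spor.Fi24' := Finite.of_equiv _ e.toEquiv
  have h := KFacts.FiTF.Tet.isTet (t := 0) (by norm_num)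
  generalize KFacts.FiTF.Defs.D 0 0 = a at h
  generalize KFacts.FiTF.Defs.D 0 1 = b at h
  generalize KFacts.FiTF.Defs.D 0 2 = c at h
  generalize KFacts.FiTF.Defs.D 0 3 = d at h
  obtain ⟨P⟩ := TetFi24A.exists_at h.ha h.hb h.nab h.ab.eq
  have ev : a * b ∈ commutator Fi24 := FiTwentyFour.even h.ha h.hb
  have hN : Nat.card (CTwoTab.FiTF.N a b) = 2 * 64561751654400 := by
    rw [Nat.card_congr (CTwoTab.FiTF.eN a b).toEquiv, OddHalf.D4.Spor.FiTF.card_Cab P]
  have hle := CTwoTab.FiTF.N_le (t := (⟨a * b, ev⟩ : Spor.Fi24')) (a := a) (b := b) rfl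
  have hmem : ∀ x : Spor.Fi24', (x : Fi24) * a * (x : Fi24)⁻¹ = a ∧ (x : Fi24) * b * (x : Fi24)⁻¹ = b →
      x ∈ CTwoTab.FiTF.N a b := by
    intro x hx
    rw [CTwoTab.FiTF.mem_N, FiTwentyFour.mem_Cab]
    exact ⟨FiTwentyFour.mem_commutator_iff.1 x.2, mul_inv_eq_iff_eq_mul.1 hx.1, mul_inv_eq_iff_eq_mul.1 hx.2⟩
  have hc : Nat.card (centralizer ({(⟨a * b, ev⟩ : Spor.Fi24')} : Set Spor.Fi24')) ≤ 258247006617600 := by
    have h1 : (CTwoTab.FiTF.N a b).relIndex (centralizer ({(⟨a * b, ev⟩ : Spor.Fi24')} : Set Spor.Fi24')) ≤ 2 := by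
      by_cases hall : centralizer ({(⟨a * b, ev⟩ : Spor.Fi24')} : Set Spor.Fi24') ≤ CTwoTab.FiTF.N a b
      · rw [Subgroup.relIndex_eq_one.2 hall]; norm_num
      · obtain ⟨s, hs, hsN⟩ := SetLike.not_le_iff_exists.1 hall
        refine (Subgroup.relIndex_eq_two_iff.2 ⟨s, hs, fun x hx => ?_⟩).le
        have key : ∀ y ∈ centralizer ({(⟨a * b, ev⟩ : Spor.Fi24')} : Set Spor.Fi24'), y ∉ CTwoTab.FiTF.N a b →
            (y : Fi24) * a * (y : Fi24)⁻¹ = b ∧ (y : Fi24) * b * (y : Fi24)⁻¹ = a := by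
          intro y hy hyN
          rcases CTwoTab.FiTF.fix_or_swap P (t := (⟨a * b, ev⟩ : Spor.Fi24')) rfl hy with h2 | h2
          · exact absurd (hmem y h2) hyN
          · exact h2
        by_cases hxN : x ∈ CTwoTab.FiTF.N a b
        · right
          refine ⟨hxN, fun h2 => hsN ?_⟩
          have := mul_mem (inv_mem hxN) h2
          rwa [inv_mul_cancel_left] at this
        · left
          refine ⟨hmem _ ?_, hxN⟩
          obtain ⟨h3, h4⟩ := key s hs hsN
          obtain ⟨h5, h6⟩ := key x hx hxN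
          constructor
          · show ((x : Fi24) * (s : Fi24)) * a * ((x : Fi24) * (s : Fi24))⁻¹ = a
            calc ((x : Fi24) * (s : Fi24)) * a * ((x : Fi24) * (s : Fi24))⁻¹
                = (x : Fi24) * ((s : Fi24) * a * (s : Fi24)⁻¹) * (x : Fi24)⁻¹ := by group
              _ = a := by rw [h3, h6]
          · show ((x : Fi24) * (s : Fi24)) * b * ((x : Fi24) * (s : Fi24))⁻¹ = b
            calc ((x : Fi24) * (s : Fi24)) * b * ((x : Fi24) * (s : Fi24))⁻¹
                = (x : Fi24) * ((s : Fi24) * b * (s : Fi24)⁻¹) * (x : Fi24)⁻¹ := by group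
              _ = b := by rw [h4, h5]
    have h2 := Subgroup.card_mul_index ((CTwoTab.FiTF.N a b).subgroupOf
      (centralizer ({(⟨a * b, ev⟩ : Spor.Fi24')} : Set Spor.Fi24')))
    rw [Nat.card_congr (Subgroup.subgroupOfEquivOfLe hle).toEquiv, hN] at h2
    rw [← h2]
    calc _ ≤ (2 * 64561751654400) * 2 := Nat.mul_le_mul_left _ h1
      _ = 258247006617600 := by norm_num
  exact crit_iso (B := 43046721) (c := 258247006617600) e _ hn ho hc
    [(2, 21), (3, 16), (5, 2), (7, 3), (11, 1), (13, 1), (17, 1), (23, 1), (29, 1)] (by norm_num) (by decide +kernel)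

end Cfsg.Agent.H270.Crit
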