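import Cfsg.Agent.H270.Crit.Base
import Cfsg.Agent.H489.OutSpor
import Cfsg.Agent.H94.Sp.Janko
import Cfsg.Agent.NotCT.Orders
import Cfsg.Agent.KFacts.He.Bound

/-!
# `Crit` for J1, J2, J3, HS, McL, Ly, He, Suz, ON, Ru (helper270)
-/

set_option autoImplicit false

namespace Cfsg.Agent.H270.Crit

open Subgroup Cfsg Cfsg.Agent.H548.Crit

theorem crit_j1 {K : Type*} [Group K] [Finite K] (h : Spor.IsoJ1 K) (ho : Nat.card (Cfsg.Out K) ≤ 2) : Crit K := by
  have hn := NotCT.Orders.j1 h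
  obtain ⟨e⟩ := h
  obtain ⟨D⟩ := UGT.EndJ1.Data.exists_dat
  exact crit_iso (B := 19) (c := 120) e _ hn ho D.card_C.le [(2, 3), (3, 1), (5, 1), (7, 1), (11, 1), (19, 1)]
    (by norm_num) (by decide +kernel)

theorem crit_j2 {K : Type*} [Group K] [Finite K] (h : Spor.IsoJ2 K) (ho : Nat.card (Cfsg.Out K) ≤ 2) : Crit K := by
  have hn := NotCT.Orders.j2 h
  obtain ⟨e⟩ := h
  have hf : Finite Spor.J2 := Finite.of_equiv _ e.toEquiv
  obtain ⟨t, u, Q, v, ρ, D⟩ := KFacts.J2.Basic.exists_dat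
  exact crit_iso (B := 128) (c := 240) e _ hn ho D.card_cent_u.le [(2, 7), (3, 3), (5, 2), (7, 1)]
    (by norm_num) (by decide +kernel)

theorem crit_j3 {K : Type*} [Group K] [Finite K] (h : Spor.IsoJ3 K) (ho : Nat.card (Cfsg.Out K) ≤ 2) : Crit K := by
  have hn := NotCT.Orders.j3 h
  obtain ⟨z, Q, v, ρ, M, hc, -, -⟩ := OddHalf.D8.RowJ3.sheet' K h
  exact crit_iso (B := 243) (c := 1920) (MulEquiv.refl K) z hn ho hc.le [(2, 7), (3, 5), (5, 1), (17, 1), (19, 1)]
    (by norm_num) (by decide +kernel)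

theorem crit_hs {K : Type*} [Group K] [Finite K] (h : Spor.IsoHS K) (ho : Nat.card (Cfsg.Out K) ≤ 2) : Crit K := by
  have hn := NotCT.Orders.hs h
  obtain ⟨D⟩ := KFacts.HS.exists_mod h
  exact crit_iso (B := 512) (c := 7680) (MulEquiv.refl K) _ hn ho D.card_centralizer.le
    [(2, 9), (3, 2), (5, 3), (7, 1), (11, 1)] (by norm_num) (by decide +kernel)

/-- the order of the centralizer in a group of type `MT n` -/
theorem card_mt {G : Type*} [Group G] [Finite G] {n : ℕ} (L : TypeM.Two.MT n G) :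
    Nat.card (centralizer ({L.t} : Set G)) ≤ 2 * Nat.card (alternatingGroup (Fin n)) := by
  have h1 := Subgroup.card_mul_index L.K.π.ker
  have h2 : Nat.card (L.K.π.ker) ≤ 2 := by
    have h3 : ((L.K.π.ker : Set (centralizer ({L.t} : Set G)))) ⊆ {1, L.K.z} := by
      intro x hx
      exact (L.K.ker x).1 hx
    have h4 := Set.ncard_le_ncard h3 (Set.toFinite _)
    exact h4.trans (Set.ncard_insert_le _ _ |>.trans (by rw [Set.ncard_singleton]))
  rw [Subgroup.index_ker, L.K.range_eq] at h1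
  rw [← h1]
  exact Nat.mul_le_mul_right _ h2

theorem crit_mcl {K : Type*} [Group K] [Finite K] (h : Spor.IsoMcL K) (ho : Nat.card (Cfsg.Out K) ≤ 2) : Crit K := by
  have hn := NotCT.Orders.mcl h
  obtain ⟨e⟩ := h
  obtain ⟨hf, -, -, ⟨L⟩⟩ := TypeM.FactsMcL.exists_mt_mcl
  refine crit_iso (B := 729) (c := 40320) e _ hn ho ((card_mt L).trans ?_)
    [(2, 7), (3, 6), (5, 3), (7, 1), (11, 1)] (by norm_num) (by decide +kernel)
  rw [nat_card_alternatingGroup, Nat.card_fin]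
  decide

theorem crit_he {K : Type*} [Group K] [Finite K] (h : Spor.IsoHe K) (ho : Nat.card (Cfsg.Out K) ≤ 2) : Crit K := by
  have hn := NotCT.Orders.he h
  obtain ⟨e⟩ := h
  exact crit_iso (B := 1024) (c := 21504) e _ hn ho KFacts.He.Bound.card_centralizer_le
    [(2, 10), (3, 3), (5, 2), (7, 3), (17, 1)] (by norm_num) (by decide +kernel)

theorem crit_suz {K : Type*} [Group K] [Finite K] (h : Spor.IsoSuz K) (ho : Nat.card (Cfsg.Out K) ≤ 2) : Crit K := by
  have hn := NotCT.Orders.suz h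
  obtain ⟨e⟩ := h
  exact crit_iso (B := 8192) (c := 161280) e KFacts.SuzLFour.e0 hn ho KFacts.SuzTwoB.card_CE.le
    [(2, 13), (3, 7), (5, 2), (7, 1), (11, 1), (13, 1)] (by norm_num) (by decide +kernel)

theorem crit_ly {K : Type*} [Group K] [Finite K] (h : Spor.IsoLy K) (ho : Nat.card (Cfsg.Out K) ≤ 2) : Crit K := by
  have hn := NotCT.Orders.ly h
  obtain ⟨e⟩ := h
  exact crit_iso (B := 15625) (c := 39916800) e _ hn ho R10.Close.cover_τ.1.le
    [(2, 8), (3, 7), (5, 6), (7, 1), (11, 1), (31, 1), (37, 1), (67, 1)] (by norm_num) (by decide +kernel)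

theorem crit_on {K : Type*} [Group K] [Finite K] (h : Spor.IsoON K) (ho : Nat.card (Cfsg.Out K) ≤ 2) : Crit K := by
  have hn := NotCT.Orders.on h
  obtain ⟨e⟩ := h
  exact crit_iso (B := 512) (c := 161280) e _ hn ho KFacts.ON.Cent.card_cent.le
    [(2, 9), (3, 4), (5, 1), (7, 3), (11, 1), (19, 1), (31, 1)] (by norm_num) (by decide +kernel)

theorem crit_ru {K : Type*} [Group K] [Finite K] (h : Spor.IsoRu K) (ho : Nat.card (Cfsg.Out K) ≤ 2) : Crit K := by
  have hn := NotCT.Orders.ru h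
  obtain ⟨C, -⟩ := KFacts.Ru.exists_core h
  exact crit_iso (B := 16384) (c := 245760) (MulEquiv.refl K) _ hn ho (Ru127.Sg.card_cent C).le
    [(2, 14), (3, 3), (5, 3), (7, 1), (13, 1), (29, 1)] (by norm_num) (by decide +kernel)

end Cfsg.Agent.H270.Crit
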