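import Cfsg.Agent.H270.Crit.Base
import Cfsg.Agent.H94.Sp.Monst
import Cfsg.Agent.H94.Sp.TitsJ4
import Cfsg.Agent.NotCT.Orders
import Cfsg.Agent.Mrg.Omega.ML.RowBM

/-!
# `Crit` for HN, Th, B, M, J4 and the Tits group (helper270)
-/

set_option autoImplicit false

namespace Cfsg.Agent.H270.Crit

open Subgroup Cfsg Cfsg.Agent.H548.Crit

theorem crit_hn {K : Type*} [Group K] [Finite K] (h : Spor.IsoHN K) (ho : Nat.card (Cfsg.Out K) ≤ 2) : Crit K := by
  have hn := NotCT.Orders.hn h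
  obtain ⟨e⟩ := h
  exact crit_iso (B := 16384) (c := 177408000) e _ hn ho KFacts.HN.Classes.card_centralizer_τ.le
    [(2, 14), (3, 6), (5, 6), (7, 1), (11, 1), (19, 1)] (by norm_num) (by decide +kernel)

theorem crit_th {K : Type*} [Group K] [Finite K] (h : Spor.IsoTh K) (ho : Nat.card (Cfsg.Out K) ≤ 2) : Crit K := by
  have hn := NotCT.Orders.th h
  obtain ⟨e⟩ := h
  exact crit_iso (B := 59049) (c := 92897280) e _ hn ho Cfsg.Agent.MonsterX.ThOneClass.card_a.le
    [(2, 15), (3, 10), (5, 3), (7, 2), (13, 1), (19, 1), (31, 1)] (by norm_num) (by decide +kernel)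

theorem crit_m {K : Type*} [Group K] [Finite K] (h : Spor.IsoM K) (ho : Nat.card (Cfsg.Out K) ≤ 2) : Crit K := by
  have hn := NotCT.Orders.m h
  obtain ⟨e⟩ := h
  obtain ⟨f⟩ := Cfsg.Agent.MonsterP.Equiv.equiv
  have A := Cfsg.Agent.MonsterU.Uncond.all
  have := Cfsg.Agent.MonsterX.MainBasic.G_finite A.hO
  exact crit_iso (B := 70368744177664) (c := 2 * 4154781481226426191177580544000000) (e.trans f) _ hn ho
    (Cfsg.Agent.MonsterX.MainPack.card_cent_t A.hG A.hR A.hL A.hO A.hT).le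
    [(2, 46), (3, 20), (5, 9), (7, 6), (11, 2), (13, 3), (17, 1), (19, 1), (23, 1), (29, 1), (31, 1), (41, 1),
      (47, 1), (59, 1), (71, 1)] (by norm_num) (by decide +kernel)

/-- a centralizer with a homomorphism with kernel in `Q` -/
theorem card_cent_le_of_ker {G : Type*} [Group G] [Finite G] {z : G} {L : Type*} [Group L] [Finite L] (Q : Subgroup G)
    (π : centralizer ({z} : Set G) →* L) (h : ∀ c, π c = 1 → (c : G) ∈ Q) :
    Nat.card (centralizer ({z} : Set G)) ≤ Nat.card Q * Nat.card L := by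
  rw [← Subgroup.card_mul_index π.ker, Subgroup.index_ker]
  refine Nat.mul_le_mul ?_ (Subgroup.card_le_card_group _)
  exact Nat.card_le_card_of_injective (fun c : π.ker => (⟨((c : centralizer ({z} : Set G)) : G), h _ c.2⟩ : Q))
    (fun a b hab => by
      simp only [Subtype.mk.injEq] at hab
      exact Subtype.ext (Subtype.ext hab))

section baby

open Cfsg.Agent.BabyM Cfsg.Agent.BabyM.Model Cfsg.Agent.BabyU.ClosModel Cfsg.Agent.BabyU.ClosLane
open Cfsg.Agent.KFacts.Baby

theorem crit_b {K : Type*} [Group K] [Finite K] (h : Spor.IsoB K) (ho : Nat.card (Cfsg.Out K) ≤ 2) : Crit K := by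
  have hn := NotCT.Orders.b h
  obtain ⟨e⟩ := h
  obtain ⟨f⟩ := Omega.TwoF.RowB.iso_model
  have hfin := A.finite_G
  have D := KFacts.Baby.Sheet.data KFacts.CoTwo.InnerB.inner KFacts.Baby.Row.fix
  have hs := D.simple
  obtain ⟨π, D'⟩ := Omega.ML.ExInst.data_of_inner D
  have hc : Nat.card GroupInst.K₀ = 42305421312000 := A.grp.card
  have : Finite GroupInst.K₀ := Nat.finite_of_card_ne_zero (by rw [hc]; norm_num)
  have h1 := card_cent_le_of_ker _ π (fun c hc => (D'.ker c).1 hc)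
  rw [hc, KFacts.Baby.CaseM.card_PP] at h1
  exact crit_iso (B := 2199023255552) (c := 354883595661213696000) (e.trans f.symm) _ hn ho
    (h1.trans (by norm_num))
    [(2, 41), (3, 13), (5, 6), (7, 2), (11, 1), (13, 1), (17, 1), (19, 1), (23, 1), (31, 1), (47, 1)]
    (by norm_num) (by decide +kernel)

end baby

theorem crit_j4_aux {K J T : Type*} [Group K] [Group T] [Group J] [Finite K] (hn : Nat.card K = 86775571046077562880)
    (ho : Nat.card (Cfsg.Out K) ≤ 2) (e : K ≃* J) {f : J →* T} (hf : Function.Bijective f) (z : T) {C : Subgroup T}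
    (hC : C = centralizer ({z} : Set T)) (hc : Nat.card C ≤ 21799895040) : Crit K := by
  subst hC
  exact crit_iso (B := 2097152) (c := 21799895040) (e.trans (MulEquiv.ofBijective f hf)) z hn ho hc
    [(2, 21), (3, 3), (5, 1), (7, 1), (11, 3), (23, 1), (29, 1), (31, 1), (37, 1), (43, 1)]
    (by norm_num) (by decide +kernel)

theorem crit_j4 {K : Type*} [Group K] [Finite K] (h : Spor.IsoJ4 K) (ho : Nat.card (Cfsg.Out K) ≤ 2) : Crit K := by
  have hn := NotCT.Orders.j4 h
  obtain ⟨e⟩ := h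
  obtain ⟨Q, N, M, H⟩ := KFacts.J4.HypR.exists_hyp
  have hfin : Finite Cfsg.Agent.J4M.Base.R := inferInstance
  have hs : IsSimpleGroup Cfsg.Agent.J4M.Base.R := Cfsg.Agent.J4M.SimpleR.isJ4_R.1
  obtain ⟨f, hf⟩ := Cfsg.Agent.J4Type.Top.main H
  exact crit_j4_aux hn ho e hf Cfsg.Agent.J4C.Link.zR rfl Cfsg.Agent.J4M.CenBound.card_Cz_le

theorem crit_tits {K : Type*} [Group K] [Finite K] (h : Lie.IsoTits K) (ho : Nat.card (Cfsg.Out K) ≤ 2) : Crit K := by
  have hn := NotCT.Orders.tits h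
  have O := CpAutTits.Row.out h
  have : Fact (Nat.Prime 5) := ⟨by norm_num⟩
  obtain ⟨y, hy⟩ := exists_prime_orderOf_dvd_card' (G := K) 5 (by rw [O.card]; norm_num)
  exact crit_iso (B := 2048) (c := 50) (MulEquiv.refl K) y hn ho (O.cent y hy).le
    [(2, 11), (3, 3), (5, 2), (13, 1)] (by norm_num) (by decide +kernel)

end Cfsg.Agent.H270.Crit
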