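import Cfsg.Agent.H270.Crit.Mathieu
import Cfsg.Agent.H270.Crit.Janko
import Cfsg.Agent.H270.Crit.Conway
import Cfsg.Agent.H270.Crit.Fischer
import Cfsg.Agent.H270.Crit.Monster
import Cfsg.Agent.H489.OutSpor

/-!
# `Crit` for the sporadic groups and the Tits group (helper270)
-/

set_option autoImplicit false

namespace Cfsg.Agent.H270.Crit

open Cfsg Cfsg.Agent.H548.Crit

/-- **The criterion for the sporadic groups.** -/
theorem crit_sporadic {K : Type*} [Group K] [Finite K] (h : IsSporadicGroup K) : Crit K := by
  have ho := H489.card_out_sporadic h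
  rcases h with h | h | h | h | h | h | h | h | h | h | h | h | h | h | h | h | h | h | h | h | h | h | h | h | h | h
  · exact crit_m11 h ho
  · exact crit_m12 h ho
  · exact crit_m22 h ho
  · exact crit_m23 h ho
  · exact crit_m24 h ho
  · exact crit_j1 h ho
  · exact crit_j2 h ho
  · exact crit_j3 h ho
  · exact crit_j4 h ho
  · exact crit_co1 h ho
  · exact crit_co2 h ho
  · exact crit_co3 h ho
  · exact crit_mcl h ho
  · exact crit_hs h ho
  · exact crit_suz h ho
  · exact crit_he h ho
  · exact crit_ru h ho
  · exact crit_on h ho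
  · exact crit_ly h ho
  · exact crit_fi22 h ho
  · exact crit_fi23 h ho
  · exact crit_fi24 h ho
  · exact crit_hn h ho
  · exact crit_th h ho
  · exact crit_b h ho
  · exact crit_m h ho

/-- **The criterion for the Tits group.** -/
theorem crit_isoTits {K : Type*} [Group K] [Finite K] (h : Lie.IsoTits K) : Crit K :=
  crit_tits h (H489.card_out_tits h)

end Cfsg.Agent.H270.Crit
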